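import Mathlib

set_option autoImplicit false
universe u

namespace Groth.Agent.Helper9.GrHt

open LaurentPolynomial

variable {R : Type u} [CommRing R]

instance isNoetherianRing_laurent [IsNoetherianRing R] : IsNoetherianRing R[T;T⁻¹] :=
  IsLocalization.isNoetherianRing (Submonoid.powers (Polynomial.X : Polynomial R)) _ inferInstance

/-- Laurent polynomials over a field have dimension at most one -/
lemma ringKrullDim_laurent_field_le (K : Type u) [Field K] : ringKrullDim K[T;T⁻¹] ≤ 1 := by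
  have h1 : ringKrullDim K[T;T⁻¹] ≤ ringKrullDim (Polynomial K) := by
    apply Order.krullDim_le_of_strictMono
      (PrimeSpectrum.comap (algebraMap (Polynomial K) K[T;T⁻¹]))
    apply Monotone.strictMono_of_injective
    · intro a b hab
      exact Ideal.comap_mono hab
    · exact PrimeSpectrum.localization_comap_injective K[T;T⁻¹]
        (Submonoid.powers (Polynomial.X : Polynomial K))
  refine h1.trans ?_
  have : Ring.KrullDimLE 1 (Polynomial K) := inferInstance
  exact (Ring.krullDimLE_iff).mp this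

/-- the fibres of `Spec R[T;T⁻¹] → Spec R` have dimension at most one -/
lemma krullDim_fibre_le (q : PrimeSpectrum R) :
    Order.krullDim ((PrimeSpectrum.comap (algebraMap R R[T;T⁻¹])) ⁻¹' {q}) ≤ 1 := by
  rw [Order.krullDim_eq_of_orderIso (PrimeSpectrum.preimageOrderIsoFiber R R[T;T⁻¹] q),
    ← ringKrullDim]
  have e := (AddMonoidAlgebra.scalarTensorEquiv R (M := ℤ) (q.asIdeal.ResidueField)).toRingEquiv
  have h := ringKrullDim_eq_of_ringEquiv e
  have h2 : ringKrullDim (q.asIdeal.Fiber R[T;T⁻¹]) =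
    ringKrullDim (TensorProduct R q.asIdeal.ResidueField (AddMonoidAlgebra R ℤ)) := rfl
  rw [h2, h]
  exact ringKrullDim_laurent_field_le _

/-- no chain of three primes of `R[T;T⁻¹]` over the same prime of `R` -/
lemma no_three_chain (q : Ideal R) [q.IsPrime] (Q₀ Q₁ Q₂ : Ideal R[T;T⁻¹])
    [Q₀.IsPrime] [Q₁.IsPrime] [Q₂.IsPrime]
    (h₀ : Q₀.comap (algebraMap R R[T;T⁻¹]) = q) (h₁ : Q₁.comap (algebraMap R R[T;T⁻¹]) = q)
    (h₂ : Q₂.comap (algebraMap R R[T;T⁻¹]) = q) (h01 : Q₀ < Q₁) (h12 : Q₁ < Q₂) : False := by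
  let qq : PrimeSpectrum R := ⟨q, inferInstance⟩
  have hdim := krullDim_fibre_le qq
  rw [Order.krullDim_le_one_iff] at hdim
  let x₀ : ((PrimeSpectrum.comap (algebraMap R R[T;T⁻¹])) ⁻¹' {qq}) :=
    ⟨⟨Q₀, inferInstance⟩, by
      simp only [Set.mem_preimage, Set.mem_singleton_iff]
      exact PrimeSpectrum.ext h₀⟩
  let x₁ : ((PrimeSpectrum.comap (algebraMap R R[T;T⁻¹])) ⁻¹' {qq}) :=
    ⟨⟨Q₁, inferInstance⟩, by
      simp only [Set.mem_preimage, Set.mem_singleton_iff]
      exact PrimeSpectrum.ext h₁⟩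
  let x₂ : ((PrimeSpectrum.comap (algebraMap R R[T;T⁻¹])) ⁻¹' {qq}) :=
    ⟨⟨Q₂, inferInstance⟩, by
      simp only [Set.mem_preimage, Set.mem_singleton_iff]
      exact PrimeSpectrum.ext h₂⟩
  have l01 : x₀ < x₁ := h01
  have l12 : x₁ < x₂ := h12
  rcases hdim x₁ with h | h
  · exact (h.not_lt l01)
  · exact (h.not_lt l12)

/-- for a prime `Q` of `R[T;T⁻¹]` over `q`, `ht Q ≤ ht q + 1` -/
theorem height_le_height_add_one [IsNoetherianRing R] (q : Ideal R) [q.IsPrime]
    (Q : Ideal R[T;T⁻¹]) [Q.IsPrime] (hQ : Q.comap (algebraMap R R[T;T⁻¹]) = q) :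
    Q.height ≤ q.height + 1 := by
  have : Q.LiesOver q := ⟨hQ.symm⟩
  refine (Ideal.height_le_height_add_of_liesOver q Q).trans ?_
  gcongr
  set I := q.map (algebraMap R R[T;T⁻¹]) with hI
  have hIQ : I ≤ Q := by
    rw [hI, Ideal.map_le_iff_le_comap, hQ]
  have hsurj : Function.Surjective (Ideal.Quotient.mk I) := Ideal.Quotient.mk_surjective
  have hker : RingHom.ker (Ideal.Quotient.mk I) ≤ Q := by rwa [Ideal.mk_ker]
  have hprime : (Q.map (Ideal.Quotient.mk I)).IsPrime :=
    Ideal.map_isPrime_of_surjective hsurj hker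
  have hcomapQ : (Q.map (Ideal.Quotient.mk I)).comap (Ideal.Quotient.mk I) = Q := by
    rw [Ideal.comap_map_of_surjective _ hsurj, ← RingHom.ker_eq_comap_bot]
    exact sup_eq_left.mpr hker
  have key : ∀ (P : Ideal (R[T;T⁻¹] ⧸ I)) [P.IsPrime], P ≤ Q.map (Ideal.Quotient.mk I) →
      (P.comap (Ideal.Quotient.mk I)).comap (algebraMap R R[T;T⁻¹]) = q := by
    intro P _ hP
    apply le_antisymm
    · rw [← hQ]
      apply Ideal.comap_mono
      rw [← hcomapQ]
      exact Ideal.comap_mono hP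
    · rw [← Ideal.map_le_iff_le_comap, ← hI]
      intro x hx
      rw [Ideal.mem_comap]
      have : Ideal.Quotient.mk I x = 0 := Ideal.Quotient.eq_zero_iff_mem.mpr hx
      rw [this]
      exact P.zero_mem
  have hone : ((1 : ℕ) : ℕ∞) = 1 := rfl
  rw [← hone, Ideal.height_le_iff]
  intro P₁ hP₁ hlt₁
  rw [hone, Order.lt_one_iff]
  have h0 : P₁.height ≤ ((0 : ℕ) : ℕ∞) := by
    rw [Ideal.height_le_iff]
    intro P₀ hP₀ hlt₀
    exfalso
    have hlt : ∀ {A B : Ideal (R[T;T⁻¹] ⧸ I)}, A < B →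
        A.comap (Ideal.Quotient.mk I) < B.comap (Ideal.Quotient.mk I) := by
      intro A B hAB
      refine lt_of_le_of_ne (Ideal.comap_mono hAB.le) fun h => ?_
      exact hAB.ne (Ideal.comap_injective_of_surjective _ hsurj h)
    have h01 := hlt hlt₀
    have h12 := hlt hlt₁
    rw [hcomapQ] at h12
    exact no_three_chain q (P₀.comap (Ideal.Quotient.mk I)) (P₁.comap (Ideal.Quotient.mk I)) Q
      (key P₀ (hlt₀.le.trans hlt₁.le)) (key P₁ hlt₁.le) hQ h01 h12
  simpa using h0

end Groth.Agent.Helper9.GrHt
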