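import Mathlib

set_option autoImplicit false
universe u

namespace Groth.Agent.Helper9.GrHt

open LaurentPolynomial DirectSum

variable {R : Type u} [CommRing R] (𝒜 : ℤ → AddSubgroup R) [GradedRing 𝒜]

/-- the additive map `r ↦ Σ rₙ Tⁿ` -/
noncomputable def thetaAdd : R →+ R[T;T⁻¹] :=
  (DirectSum.toAddMonoid
      (fun i : ℤ => (AddMonoidAlgebra.singleAddHom i).comp (𝒜 i).subtype)).comp
    (DirectSum.decomposeAddEquiv 𝒜).toAddMonoidHom

lemma thetaAdd_of_mem {n : ℤ} {r : R} (hr : r ∈ 𝒜 n) :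
    thetaAdd 𝒜 r = AddMonoidAlgebra.single n r := by
  unfold thetaAdd
  simp only [AddMonoidHom.coe_comp, AddEquiv.toAddMonoidHom_eq_coe, AddMonoidHom.coe_coe,
    Function.comp_apply, DirectSum.decomposeAddEquiv_apply]
  rw [DirectSum.decompose_of_mem 𝒜 hr, DirectSum.toAddMonoid_of]
  rfl

lemma thetaAdd_mul (a b : R) : thetaAdd 𝒜 (a * b) = thetaAdd 𝒜 a * thetaAdd 𝒜 b := by
  induction a using DirectSum.Decomposition.inductionOn 𝒜 with
  | zero => simp
  | @homogeneous i a =>
    induction b using DirectSum.Decomposition.inductionOn 𝒜 with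
    | zero => simp
    | @homogeneous j b =>
      rw [thetaAdd_of_mem 𝒜 a.2, thetaAdd_of_mem 𝒜 b.2,
        thetaAdd_of_mem 𝒜 (SetLike.GradedMul.mul_mem a.2 b.2), AddMonoidAlgebra.single_mul_single]
    | add b b' hb hb' => rw [mul_add, map_add, map_add, hb, hb', mul_add]
  | add a a' ha ha' => rw [add_mul, map_add, map_add, ha, ha', add_mul]

/-- the ring homomorphism `θ : R → R[T;T⁻¹]`, `r ↦ Σ rₙ Tⁿ` -/
noncomputable def theta : R →+* R[T;T⁻¹] :=
  { thetaAdd 𝒜 with
    map_one' := by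
      show thetaAdd 𝒜 1 = 1
      rw [thetaAdd_of_mem 𝒜 (SetLike.GradedOne.one_mem : (1 : R) ∈ 𝒜 0)]
      rfl
    map_mul' := thetaAdd_mul 𝒜 }

lemma theta_of_mem {n : ℤ} {r : R} (hr : r ∈ 𝒜 n) :
    theta 𝒜 r = AddMonoidAlgebra.single n r := thetaAdd_of_mem 𝒜 hr

lemma coeff_theta (r : R) (n : ℤ) :
    (theta 𝒜 r).coeff n = (DirectSum.decompose 𝒜 r n : R) := by
  induction r using DirectSum.Decomposition.inductionOn 𝒜 with
  | zero => simp
  | @homogeneous i a =>
    rw [theta_of_mem 𝒜 a.2, DirectSum.decompose_coe, AddMonoidAlgebra.coeff_single]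
    by_cases h : i = n
    · subst h; simp
    · rw [Finsupp.single_eq_of_ne' h, DirectSum.of_eq_of_ne _ _ _ (Ne.symm h)]
      rfl
  | add a a' ha ha' =>
    rw [map_add, DirectSum.decompose_add, DirectSum.add_apply, AddSubgroup.coe_add, ← ha, ← ha']
    rfl

end Groth.Agent.Helper9.GrHt

namespace Groth.Agent.Helper9.GrHt

open LaurentPolynomial DirectSum

variable {R : Type u} [CommRing R] (𝒜 : ℤ → AddSubgroup R) [GradedRing 𝒜]

/-- the endomorphism `Θ` of `R[T;T⁻¹]` extending `θ` and fixing `T` -/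
noncomputable def Theta : R[T;T⁻¹] →+* R[T;T⁻¹] :=
  AddMonoidAlgebra.liftNCRingHom (theta 𝒜) (AddMonoidAlgebra.of R ℤ) (fun _ _ => Commute.all _ _)

lemma Theta_single (n : ℤ) (r : R) :
    Theta 𝒜 (AddMonoidAlgebra.single n r) = theta 𝒜 r * AddMonoidAlgebra.single n 1 := by
  unfold Theta
  rw [AddMonoidAlgebra.liftNCRingHom_single]
  rfl

lemma Theta_algebraMap (r : R) : Theta 𝒜 (algebraMap R R[T;T⁻¹] r) = theta 𝒜 r := by
  have : algebraMap R R[T;T⁻¹] r = AddMonoidAlgebra.single 0 r := rfl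
  rw [this, Theta_single]
  have : (AddMonoidAlgebra.single (0 : ℤ) (1 : R) : R[T;T⁻¹]) = 1 := rfl
  rw [this, mul_one]

lemma Theta_surjective : Function.Surjective (Theta 𝒜) := by
  rw [← RingHom.range_eq_top]
  rw [eq_top_iff]
  have hT : ∀ n : ℤ, (AddMonoidAlgebra.single n (1 : R) : R[T;T⁻¹]) ∈ (Theta 𝒜).range := by
    intro n
    refine ⟨AddMonoidAlgebra.single n 1, ?_⟩
    rw [Theta_single, map_one, one_mul]
  have hC : ∀ r : R, (AddMonoidAlgebra.single 0 r : R[T;T⁻¹]) ∈ (Theta 𝒜).range := by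
    intro r
    induction r using DirectSum.Decomposition.inductionOn 𝒜 with
    | zero => simp
    | @homogeneous i a =>
      refine ⟨AddMonoidAlgebra.single (-i) (a : R), ?_⟩
      rw [Theta_single, theta_of_mem 𝒜 a.2, AddMonoidAlgebra.single_mul_single]
      simp
    | add a a' ha ha' =>
      rw [AddMonoidAlgebra.single_add]
      exact Subring.add_mem _ ha ha'
  intro f _
  clear ‹f ∈ ⊤›
  induction f using AddMonoidAlgebra.induction_on with
  | of m => exact hT m
  | add x y hx hy => exact Subring.add_mem _ hx hy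
  | smul r x hx =>
    have : r • x = AddMonoidAlgebra.single 0 r * x := by
      rw [LaurentPolynomial.smul_eq_C_mul]
      rfl
    rw [this]
    exact Subring.mul_mem _ (hC r) hx

end Groth.Agent.Helper9.GrHt

namespace Groth.Agent.Helper9.GrHt

open LaurentPolynomial DirectSum

variable {R : Type u} [CommRing R] (𝒜 : ℤ → AddSubgroup R) [GradedRing 𝒜]

/-- `p[T;T⁻¹]`: Laurent polynomials with coefficients in `p` -/
noncomputable def ext (p : Ideal R) : Ideal R[T;T⁻¹] :=
  RingHom.ker (AddMonoidAlgebra.mapRingHom ℤ (Ideal.Quotient.mk p))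

omit 𝒜 [GradedRing 𝒜] in
lemma mem_ext (p : Ideal R) (f : R[T;T⁻¹]) : f ∈ ext p ↔ ∀ n, f.coeff n ∈ p := by
  unfold ext
  rw [RingHom.mem_ker]
  constructor
  · intro h n
    have := congrArg (fun g : (R ⧸ p)[T;T⁻¹] => g.coeff n) h
    simp only [AddMonoidAlgebra.coeff_mapRingHom] at this
    exact Ideal.Quotient.eq_zero_iff_mem.mp this
  · intro h
    apply LaurentPolynomial.ext
    intro n
    rw [AddMonoidAlgebra.coeff_mapRingHom]
    exact Ideal.Quotient.eq_zero_iff_mem.mpr (h n)

omit 𝒜 [GradedRing 𝒜] in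
instance ext_isPrime (p : Ideal R) [p.IsPrime] : (ext p).IsPrime := by
  unfold ext
  exact RingHom.ker_isPrime _

omit 𝒜 [GradedRing 𝒜] in
lemma comap_algebraMap_ext (p : Ideal R) : (ext p).comap (algebraMap R R[T;T⁻¹]) = p := by
  ext r
  rw [Ideal.mem_comap, mem_ext]
  have : algebraMap R R[T;T⁻¹] r = AddMonoidAlgebra.single 0 r := rfl
  rw [this]
  constructor
  · intro h
    have := h 0
    rwa [AddMonoidAlgebra.coeff_single, Finsupp.single_eq_same] at this
  · intro h n
    rw [AddMonoidAlgebra.coeff_single]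
    by_cases hn : (0 : ℤ) = n
    · subst hn; rwa [Finsupp.single_eq_same]
    · rw [Finsupp.single_eq_of_ne' hn]; exact p.zero_mem

lemma comap_theta_ext (p : Ideal R) :
    (ext p).comap (theta 𝒜) = (p.homogeneousCore 𝒜).toIdeal := by
  classical
  ext r
  rw [Ideal.mem_comap, mem_ext]
  simp only [coeff_theta]
  constructor
  · intro h
    rw [← DirectSum.sum_support_decompose 𝒜 r]
    refine Ideal.sum_mem _ fun n _ => ?_
    exact Ideal.mem_homogeneousCore_of_homogeneous_of_mem ⟨n, (decompose 𝒜 r n).2⟩ (h n)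
  · intro h n
    exact Ideal.toIdeal_homogeneousCore_le 𝒜 p
      ((p.homogeneousCore 𝒜).isHomogeneous n h)

/-- the prime `Θ⁻¹(p[T;T⁻¹])`, lying over the homogeneous core of `p` -/
noncomputable def Qof (p : Ideal R) : Ideal R[T;T⁻¹] := (ext p).comap (Theta 𝒜)

instance Qof_isPrime (p : Ideal R) [p.IsPrime] : (Qof 𝒜 p).IsPrime := by
  unfold Qof
  exact Ideal.comap_isPrime _ _

lemma comap_algebraMap_Qof (p : Ideal R) :
    (Qof 𝒜 p).comap (algebraMap R R[T;T⁻¹]) = (p.homogeneousCore 𝒜).toIdeal := by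
  rw [← comap_theta_ext]
  ext r
  simp only [Qof, Ideal.mem_comap, Theta_algebraMap]

omit 𝒜 [GradedRing 𝒜] in
lemma height_le_height_ext (p : Ideal R) [p.IsPrime] : p.height ≤ (ext p).height := by
  let f : PrimeSpectrum R → PrimeSpectrum R[T;T⁻¹] := fun q => ⟨ext q.asIdeal, inferInstance⟩
  have hmono : StrictMono f := by
    apply Monotone.strictMono_of_injective
    · intro a b hab
      show ext a.asIdeal ≤ ext b.asIdeal
      intro g hg
      rw [mem_ext] at hg ⊢
      exact fun n => hab (hg n)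
    · intro a b hab
      have h1 : ext a.asIdeal = ext b.asIdeal := congrArg PrimeSpectrum.asIdeal hab
      apply PrimeSpectrum.ext
      rw [← comap_algebraMap_ext a.asIdeal, ← comap_algebraMap_ext b.asIdeal, h1]
  have := Order.height_le_height_apply_of_strictMono f hmono ⟨p, inferInstance⟩
  rwa [← PrimeSpectrum.height_eq_orderHeight, ← PrimeSpectrum.height_eq_orderHeight] at this

lemma height_ext_le_height_Qof (p : Ideal R) [p.IsPrime] :
    (ext p).height ≤ (Qof 𝒜 p).height := by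
  have hmono := RingHom.strictMono_comap_of_surjective (Theta_surjective 𝒜)
  have := Order.height_le_height_apply_of_strictMono _ hmono ⟨ext p, inferInstance⟩
  rwa [← PrimeSpectrum.height_eq_orderHeight, ← PrimeSpectrum.height_eq_orderHeight] at this

end Groth.Agent.Helper9.GrHt
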