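import Mathlib
import Groth.Prelude.Def_GrLC
import Groth.Agent.Lib.Helper9.GrHt.Fibre
import Groth.Agent.Lib.Helper9.GrHt.Theta

set_option autoImplicit false
universe u

namespace Groth.Agent.Helper9.GrHt

open LaurentPolynomial DirectSum

variable {R : Type u} [CommRing R] (𝒜 : ℤ → AddSubgroup R) [GradedRing 𝒜]

/-- **graded height inequality**: `ht p ≤ ht p* + 1` -/
theorem height_le_height_core_add_one [IsNoetherianRing R] (p : Ideal R) [p.IsPrime] :
    p.height ≤ (p.homogeneousCore 𝒜).toIdeal.height + 1 := by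
  have hcore : (p.homogeneousCore 𝒜).toIdeal.IsPrime := Ideal.IsPrime.homogeneousCore ‹_›
  calc p.height ≤ (ext p).height := height_le_height_ext p
    _ ≤ (Qof 𝒜 p).height := height_ext_le_height_Qof 𝒜 p
    _ ≤ _ := height_le_height_add_one _ (Qof 𝒜 p) (comap_algebraMap_Qof 𝒜 p)

instance wellFoundedGT_homogeneousIdeal [IsNoetherianRing R] :
    WellFoundedGT (HomogeneousIdeal 𝒜) := by
  have hmono : StrictMono (HomogeneousIdeal.toIdeal : HomogeneousIdeal 𝒜 → Ideal R) := by
    apply Monotone.strictMono_of_injective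
    · intro a b hab; exact hab
    · exact HomogeneousIdeal.toIdeal_injective
  exact hmono.wellFoundedGT

/-- in a Noetherian *local ring every proper homogeneous ideal lies in the *maximal ideal -/
lemma le_of_isStarLocal [IsNoetherianRing R] (m : HomogeneousIdeal 𝒜)
    (hm : GrLC.IsStarLocal 𝒜 m) (J : HomogeneousIdeal 𝒜) (hJ : J ≠ ⊤) : J ≤ m := by
  have : IsCoatomic (HomogeneousIdeal 𝒜) := isCoatomic_of_orderTop_gt_wellFounded wellFounded_gt
  rcases eq_top_or_exists_le_coatom J with h | ⟨n, hn, hJn⟩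
  · exact absurd h hJ
  · rw [hm.2 n hn] at hJn
    exact hJn

/-- the dimension of a Noetherian *local ring whose *maximal ideal is maximal is the height of that
ideal -/
theorem ringKrullDim_eq_height_of_isStarLocal [IsNoetherianRing R] (m : HomogeneousIdeal 𝒜)
    (hm : GrLC.IsStarLocal 𝒜 m) [hmax : m.toIdeal.IsMaximal] :
    ringKrullDim R = m.toIdeal.height := by
  apply le_antisymm
  · rw [ringKrullDim_le_iff_isMaximal_height_le]
    intro n hn
    have hnp : n.IsPrime := hn.isPrime
    have hcore : (n.homogeneousCore 𝒜).toIdeal.IsPrime := Ideal.IsPrime.homogeneousCore hnp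
    have hne : n.homogeneousCore 𝒜 ≠ ⊤ := by
      intro h
      have h1 : (n.homogeneousCore 𝒜).toIdeal = ⊤ := by rw [h]; rfl
      exact hnp.ne_top (top_le_iff.mp (h1 ▸ Ideal.toIdeal_homogeneousCore_le 𝒜 n))
    have hle : (n.homogeneousCore 𝒜).toIdeal ≤ m.toIdeal := le_of_isStarLocal 𝒜 m hm _ hne
    have hmp : m.toIdeal.IsPrime := hmax.isPrime
    rcases hle.lt_or_eq with hlt | heq
    · have h1 := Ideal.height_add_one_le_of_lt_of_isPrime hlt
      have h2 := height_le_height_core_add_one 𝒜 n
      exact_mod_cast h2.trans h1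
    · have h1 : m.toIdeal ≤ n := heq ▸ Ideal.toIdeal_homogeneousCore_le 𝒜 n
      have h2 : m.toIdeal = n := hmax.eq_of_le hnp.ne_top h1
      rw [h2]
  · exact Ideal.height_le_ringKrullDim_of_ne_top hmax.ne_top

end Groth.Agent.Helper9.GrHt
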